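import Cfsg.Agent.Lib.Helper92.PC.Group
import Cfsg.Prelude.Def_KGroupFacts

/-!
# Bounding the automorphism group of a two-generator group `P = ⟨a, z⟩`

`a` generates a Sylow subgroup of prime order, `z` is the unique central involution of a Sylow
`2`-subgroup.  Every automorphism can be normalised by inner automorphisms so that `a ↦ a ^ ± 1` and
`z ↦` a conjugate of `z`; a finite check on the class of `z` finishes.
-/

set_option autoImplicit false

namespace Cfsg.Agent.Lib.Helper92.PC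

open Cfsg

/-- `Out` is invariant under isomorphism. -/
theorem card_out_congr {E : Type*} {E' : Type*} [Group E] [Group E'] (e : E ≃* E') :
    Nat.card (Cfsg.Out E) = Nat.card (Cfsg.Out E') := by
  refine Nat.card_congr (QuotientGroup.congr (Cfsg.Inn E) (Cfsg.Inn E') (MulAut.congr e) ?_).toEquiv
  ext φ
  constructor
  · rintro ⟨_, ⟨a, rfl⟩, rfl⟩
    refine ⟨e a, ?_⟩
    ext x
    simp [MulAut.congr, MulAut.conj_apply]
  · rintro ⟨a, rfl⟩
    refine ⟨MulAut.conj (e.symm a), ⟨e.symm a, rfl⟩, ?_⟩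
    ext x
    simp [MulAut.congr, MulAut.conj_apply]

/-! ### Sylow -/

theorem factorization_eq_of {n p k : ℕ} (hp : p.Prime) (hn : n ≠ 0) (h1 : p ^ k ∣ n)
    (h2 : ¬ p ^ (k + 1) ∣ n) : n.factorization p = k := by
  have a1 : k ≤ n.factorization p := by
    rw [← hp.pow_dvd_iff_le_factorization hn]; exact h1
  have a2 : ¬ k + 1 ≤ n.factorization p := by
    rw [← hp.pow_dvd_iff_le_factorization hn]; exact h2
  omega

/-- subgroups of order `p ^ k` are conjugate when `p ^ (k+1)` does not divide the group order. -/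
theorem exists_conj_of_card_eq_pow {G : Type*} [Group G] [Finite G] {p k : ℕ} [Fact p.Prime]
    (h2 : ¬ p ^ (k + 1) ∣ Nat.card G) (S S0 : Subgroup G) (hS : Nat.card S = p ^ k)
    (hS0 : Nat.card S0 = p ^ k) : ∃ x : G, S = S0.map (MulAut.conj x).toMonoidHom := by
  have hp := factorization_eq_of (Fact.out : p.Prime) Nat.card_pos.ne'
    (hS ▸ Subgroup.card_subgroup_dvd_card S) h2
  let P : Sylow p G := Sylow.ofCard S (by rw [hp, hS])
  let P0 : Sylow p G := Sylow.ofCard S0 (by rw [hp, hS0])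
  obtain ⟨x, hx⟩ := MulAction.exists_smul_eq G P0 P
  refine ⟨x, ?_⟩
  have h1 := congrArg (fun Q : Sylow p G => (Q : Subgroup G)) hx
  simp only [Sylow.coe_subgroup_smul] at h1
  exact h1.symm

/-- elements of prime order `p` (with `p ∥ |G|`): `x` is conjugate to a power of `y`. -/
theorem exists_conj_pow {G : Type*} [Group G] [Finite G] {p : ℕ} [Fact p.Prime]
    (h2 : ¬ p ^ 2 ∣ Nat.card G) {x y : G} (hx : orderOf x = p)
    (hy : orderOf y = p) : ∃ (k : G) (m : ℕ), 0 < m ∧ m < p ∧ k * x * k⁻¹ = y ^ m := by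
  obtain ⟨k, hk⟩ := exists_conj_of_card_eq_pow (p := p) (k := 1) h2 (Subgroup.zpowers x)
    (Subgroup.zpowers y) (by rw [Nat.card_zpowers, hx, pow_one]) (by rw [Nat.card_zpowers, hy, pow_one])
  have hxm : x ∈ (Subgroup.zpowers y).map (MulAut.conj k).toMonoidHom := hk ▸ Subgroup.mem_zpowers x
  obtain ⟨z, hz, he⟩ := Subgroup.mem_map.1 hxm
  obtain ⟨i, rfl⟩ := Subgroup.mem_zpowers_iff.1 hz
  have hp : (0 : ℤ) < p := by exact_mod_cast (Fact.out : p.Prime).pos
  obtain ⟨m, hm⟩ := Int.eq_ofNat_of_zero_le (Int.emod_nonneg i hp.ne')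
  have hmp : m < p := by
    have := Int.emod_lt_of_pos i hp
    rw [hm] at this
    exact_mod_cast this
  have hi : y ^ i = y ^ m := by rw [← zpow_mod_orderOf y i, hy, hm, zpow_natCast]
  have he' : k * y ^ m * k⁻¹ = x := by rw [← hi]; exact he
  refine ⟨k⁻¹, m, ?_, hmp, ?_⟩
  · rcases Nat.eq_zero_or_pos m with h0 | h0
    · exfalso
      rw [h0, pow_zero, mul_one, mul_inv_cancel] at he'
      rw [← he', orderOf_one] at hx
      exact (Fact.out : p.Prime).one_lt.ne hx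
    · exact h0
  · rw [← he']; group

/-- the unique central involution of a Sylow `2`-subgroup is mapped to a conjugate by every
automorphism. -/
theorem central_conj {G : Type*} [Group G] [Finite G] {k : ℕ} (S : Subgroup G)
    (hS : Nat.card S = 2 ^ k) (hk : ¬ 2 ^ (k + 1) ∣ Nat.card G) {z : G} (hz : z ∈ S) (hz1 : z ≠ 1)
    (hzc : ∀ t ∈ S, z * t = t * z)
    (huniq : ∀ s ∈ S, (∀ t ∈ S, s * t = t * s) → s = 1 ∨ s = z) (α : MulAut G) :
    ∃ x : G, α z = x * z * x⁻¹ := by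
  have : Fact (Nat.Prime 2) := ⟨Nat.prime_two⟩
  have hc : Nat.card (S.map α.toMonoidHom) = 2 ^ k := by
    rw [← hS]
    exact Nat.card_congr (S.equivMapOfInjective α.toMonoidHom α.injective).toEquiv.symm
  obtain ⟨x, hx⟩ := exists_conj_of_card_eq_pow (p := 2) hk (S.map α.toMonoidHom) S hc hS
  have h1 : α z ∈ S.map (MulAut.conj x).toMonoidHom := hx ▸ Subgroup.mem_map_of_mem _ hz
  obtain ⟨s, hs, he⟩ := Subgroup.mem_map.1 h1
  have he' : x * s * x⁻¹ = α z := he
  refine ⟨x, ?_⟩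
  have hsc : ∀ t ∈ S, s * t = t * s := by
    intro t ht
    have h2 : x * t * x⁻¹ ∈ S.map α.toMonoidHom := by
      rw [hx]; exact Subgroup.mem_map_of_mem (MulAut.conj x).toMonoidHom ht
    obtain ⟨t', ht', hte⟩ := Subgroup.mem_map.1 h2
    have hte' : α t' = x * t * x⁻¹ := hte
    have h3 : α z * α t' = α t' * α z := by rw [← map_mul, ← map_mul, hzc t' ht']
    rw [← he', hte'] at h3
    have h4 : x * (s * t) * x⁻¹ = x * (t * s) * x⁻¹ := by
      calc x * (s * t) * x⁻¹ = x * s * x⁻¹ * (x * t * x⁻¹) := by group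
        _ = x * t * x⁻¹ * (x * s * x⁻¹) := h3
        _ = x * (t * s) * x⁻¹ := by group
    exact mul_left_cancel (mul_right_cancel h4)
  rcases huniq s hs hsc with h | h
  · exfalso
    rw [h, mul_one, mul_inv_cancel] at he'
    exact hz1 (α.injective (by rw [← he', map_one]))
  · rw [← he', h]

/-! ### homomorphisms on a closure -/

theorem hom_ext_closure {Γ H : Type*} [Group Γ] [Group H] {k : Set Γ}
    (f1 f2 : Subgroup.closure k →* H)
    (h : ∀ x (hx : x ∈ k), f1 ⟨x, Subgroup.subset_closure hx⟩ = f2 ⟨x, Subgroup.subset_closure hx⟩) :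
    f1 = f2 :=
  MonoidHom.eq_of_eqOn_dense (Subgroup.closure_closure_coe_preimage (k := k))
    (fun x hx => h x.1 hx)

/-- conjugation by a normalising element, as an automorphism -/
def cAut {Γ : Type*} [Group Γ] {P : Subgroup Γ} (u : Γ) (h1 : ∀ x ∈ P, u * x * u⁻¹ ∈ P)
    (h2 : ∀ x ∈ P, u⁻¹ * x * u ∈ P) : MulAut P where
  toFun x := ⟨u * x * u⁻¹, h1 x x.2⟩
  invFun x := ⟨u⁻¹ * x * u, h2 x x.2⟩
  left_inv x := by apply Subtype.ext; simp [mul_assoc]
  right_inv x := by apply Subtype.ext; simp [mul_assoc]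
  map_mul' x y := by apply Subtype.ext; simp [mul_assoc]

/-- the group generated by two elements. -/
abbrev PG {Γ : Type*} [Group Γ] (a z : Γ) : Subgroup Γ := Subgroup.closure {a, z}

/-- the hypotheses. -/
structure AutSetup {Γ : Type*} [Group Γ] (a z t0 : Γ) (p k : ℕ) (S : Subgroup Γ) : Prop where
  fin : Finite (PG a z)
  pp : p.Prime
  oa : orderOf a = p
  hp2 : ¬ p ^ 2 ∣ Nat.card (PG a z)
  hSP : S ≤ PG a z
  cS : Nat.card S = 2 ^ k
  hk : ¬ 2 ^ (k + 1) ∣ Nat.card (PG a z)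
  zS : z ∈ S
  z1 : z ≠ 1
  zc : ∀ t ∈ S, z * t = t * z
  zu : ∀ s ∈ S, (∀ t ∈ S, s * t = t * s) → s = 1 ∨ s = z
  H1 : ∀ m, 0 < m → m < p → ∃ x ∈ PG a z,
    x * a ^ m * x⁻¹ = a ∨ x * a ^ m * x⁻¹ = a⁻¹
  ta : t0 * a * t0⁻¹ ∈ PG a z
  tz : t0 * z * t0⁻¹ ∈ PG a z
  tt : t0 * t0 = 1
  tout : t0 ∉ PG a z
  cent : ∀ u : Γ, u * a = a * u → u * z = z * u → u = 1
  H2 : ∀ r y : Γ, (r = a ∨ r = a⁻¹) → (∃ x ∈ PG a z, y = x * z * x⁻¹) →
    (∀ (w : List Bool) (m : ℕ), ev a z w ^ m = 1 → ev r y w ^ m = 1) →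
    ∃ u, (u ∈ PG a z ∨ u * t0 ∈ PG a z) ∧
      u * a * u⁻¹ = r ∧ u * z * u⁻¹ = y

namespace AutSetup

variable {Γ : Type*} [Group Γ] {a z t0 : Γ} {p k : ℕ} {S : Subgroup Γ}

theorem a_mem : a ∈ (PG a z) := Subgroup.subset_closure (Or.inl rfl)
theorem z_mem : z ∈ (PG a z) := Subgroup.subset_closure (Or.inr rfl)

theorem t_norm (h : AutSetup a z t0 p k S) : ∀ x ∈ (PG a z), t0 * x * t0⁻¹ ∈ (PG a z) := by
  have : (PG a z) ≤ (PG a z).comap (MulAut.conj t0).toMonoidHom := by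
    rw [Subgroup.closure_le]
    rintro x (rfl | hx)
    · exact h.ta
    · rw [Set.mem_singleton_iff.1 hx]; exact h.tz
  exact fun x hx => this hx

theorem t_inv (h : AutSetup a z t0 p k S) : t0⁻¹ = t0 := inv_eq_of_mul_eq_one_left h.tt

theorem t_norm' (h : AutSetup a z t0 p k S) : ∀ x ∈ (PG a z), t0⁻¹ * x * t0 ∈ (PG a z) := by
  intro x hx
  have := h.t_norm x hx
  rw [h.t_inv] at this ⊢
  exact this

/-- every automorphism is conjugation by an element of `P ∪ P t0`. -/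
theorem exists_conj (h : AutSetup a z t0 p k S) (α : MulAut (PG a z)) :
    ∃ v, (v ∈ (PG a z) ∨ v * t0 ∈ (PG a z)) ∧ ∀ x : (PG a z), ((α x : (PG a z)) : Γ) = v * x * v⁻¹ := by
  have := h.fin
  have : Fact p.Prime := ⟨h.pp⟩
  let aP : (PG a z) := ⟨a, a_mem⟩
  let zP : (PG a z) := ⟨z, z_mem⟩
  have hoa : orderOf aP = p := by rw [← h.oa]; exact Subgroup.orderOf_mk a a_mem
  obtain ⟨x1, m, hm0, hmp, hx1⟩ := exists_conj_pow h.hp2
    (x := α aP) (y := aP) (by rw [MulEquiv.orderOf_eq, hoa]) hoa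
  obtain ⟨x2, hx2, hx2a⟩ := h.H1 m hm0 hmp
  let x3 : (PG a z) := ⟨x2, hx2⟩ * x1
  let β : MulAut (PG a z) := MulAut.conj x3 * α
  have hβ : ∀ x, β x = x3 * α x * x3⁻¹ := fun x => rfl
  have hβa : ((β aP : (PG a z)) : Γ) = x2 * a ^ m * x2⁻¹ := by
    have e : β aP = ⟨x2, hx2⟩ * (x1 * α aP * x1⁻¹) * (⟨x2, hx2⟩ : (PG a z))⁻¹ := by
      rw [hβ]; simp only [x3]; group
    rw [e, hx1]
    rfl
  have hr : ((β aP : (PG a z)) : Γ) = a ∨ ((β aP : (PG a z)) : Γ) = a⁻¹ := by rw [hβa]; exact hx2a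
  -- the image of `z`
  have hcS : Nat.card (S.subgroupOf (PG a z)) = 2 ^ k := by
    rw [← h.cS]
    exact Nat.card_congr (Subgroup.subgroupOfEquivOfLe h.hSP).toEquiv
  obtain ⟨x4, hx4⟩ := central_conj (S.subgroupOf (PG a z)) hcS h.hk (z := zP)
    (Subgroup.mem_subgroupOf.2 h.zS) (fun e => h.z1 (congrArg Subtype.val e))
    (fun t ht => Subtype.ext (h.zc t.1 (Subgroup.mem_subgroupOf.1 ht)))
    (fun s hs hc => by
      rcases h.zu s.1 (Subgroup.mem_subgroupOf.1 hs) (fun t ht =>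
        congrArg Subtype.val (hc ⟨t, h.hSP ht⟩ (Subgroup.mem_subgroupOf.2 ht))) with e | e
      · exact Or.inl (Subtype.ext e)
      · exact Or.inr (Subtype.ext e)) β
  have hy : ∃ x ∈ (PG a z), ((β zP : (PG a z)) : Γ) = x * z * x⁻¹ :=
    ⟨x4.1, x4.2, by rw [hx4]; rfl⟩
  have hrel : ∀ (w : List Bool) (m : ℕ), ev a z w ^ m = 1 →
      ev ((β aP : (PG a z)) : Γ) ((β zP : (PG a z)) : Γ) w ^ m = 1 := by
    intro w m hw
    have e1 : ev aP zP w ^ m = 1 := by
      apply Subtype.ext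
      have := map_ev (PG a z).subtype aP zP w
      rw [Subgroup.coe_pow]
      have e2 : ((ev aP zP w : (PG a z)) : Γ) = ev a z w := this
      rw [e2, hw]; rfl
    have e3 := congrArg (fun x => ((β x : (PG a z)) : Γ)) e1
    simp only [map_pow, map_one, Subgroup.coe_pow, Subgroup.coe_one] at e3
    have e4 : ((β (ev aP zP w) : (PG a z)) : Γ) = ev ((β aP : (PG a z)) : Γ) ((β zP : (PG a z)) : Γ) w :=
      map_ev ((PG a z).subtype.comp β.toMonoidHom) aP zP w
    rw [← e4]; exact e3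
  obtain ⟨u, hu, hua, huz⟩ := h.H2 _ _ hr hy hrel
  have hβu : ∀ x : (PG a z), ((β x : (PG a z)) : Γ) = u * x * u⁻¹ := by
    have := hom_ext_closure ((PG a z).subtype.comp β.toMonoidHom)
      ((MulAut.conj u).toMonoidHom.comp (PG a z).subtype) (by
        rintro x (rfl | hx)
        · exact hua.symm
        · have hx' := Set.mem_singleton_iff.1 hx
          subst hx'
          exact huz.symm)
    exact fun x => DFunLike.congr_fun this x
  refine ⟨x3.1⁻¹ * u, ?_, fun x => ?_⟩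
  · rcases hu with hu | hu
    · exact Or.inl ((PG a z).mul_mem ((PG a z).inv_mem x3.2) hu)
    · right
      rw [mul_assoc]
      exact (PG a z).mul_mem ((PG a z).inv_mem x3.2) hu
  · have e : α x = x3⁻¹ * β x * x3 := by rw [hβ]; group
    rw [e, Subgroup.coe_mul, Subgroup.coe_mul, hβu, Subgroup.coe_inv]
    group

theorem inner_iff (h : AutSetup a z t0 p k S) (α : MulAut (PG a z)) (v : Γ)
    (hv : ∀ x : (PG a z), ((α x : (PG a z)) : Γ) = v * x * v⁻¹) : α ∈ Cfsg.Inn (PG a z) ↔ v ∈ (PG a z) := by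
  constructor
  · rintro ⟨q, rfl⟩
    have key : ∀ x ∈ (PG a z), (q.1⁻¹ * v) * x = x * (q.1⁻¹ * v) := by
      intro x hx
      have h1 := hv ⟨x, hx⟩
      simp only [MulAut.conj_apply, Subgroup.coe_mul, Subgroup.coe_inv] at h1
      have h2 : v * x = q.1 * x * q.1⁻¹ * v := by rw [h1]; group
      calc q.1⁻¹ * v * x = q.1⁻¹ * (v * x) := by group
        _ = x * (q.1⁻¹ * v) := by rw [h2]; group
    have h3 := h.cent _ (key a a_mem) (key z z_mem)
    have h4 : v = q.1 := by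
      have := congrArg (fun s => q.1 * s) h3
      simpa using this
    rw [h4]; exact q.2
  · intro hs
    refine ⟨⟨v, hs⟩, ?_⟩
    ext x
    rw [hv x]
    simp [MulAut.conj_apply]

theorem card_out (h : AutSetup a z t0 p k S) : Nat.card (Cfsg.Out (PG a z)) = 2 := by
  show (Cfsg.Inn (PG a z)).index = 2
  rw [Subgroup.index_eq_two_iff]
  refine ⟨cAut t0 h.t_norm h.t_norm', fun α => ?_⟩
  obtain ⟨v, hvP, hv⟩ := h.exists_conj α
  have e1 := h.inner_iff α v hv
  have e2 : α * cAut t0 h.t_norm h.t_norm' ∈ Cfsg.Inn (PG a z) ↔ v * t0 ∈ (PG a z) := by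
    apply h.inner_iff
    intro x
    rw [MulAut.mul_apply, hv]
    show v * (t0 * x * t0⁻¹) * v⁻¹ = _
    group
  rw [e1, e2]
  rcases hvP with hs | hs
  · right
    refine ⟨hs, fun hc => h.tout ?_⟩
    have := (PG a z).mul_mem ((PG a z).inv_mem hs) hc
    simpa using this
  · left
    refine ⟨hs, fun hc => h.tout ?_⟩
    have := (PG a z).mul_mem ((PG a z).inv_mem hc) hs
    simpa using this

end AutSetup

end Cfsg.Agent.Lib.Helper92.PC
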