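import Cfsg.Agent.Lib.Helper92.PC.Glue

/-!
# Stabiliser chains: lower bounds for the order of a permutation group, bases

`St P β i` : the elements of `P` fixing the first `i` base points.  Orbits of explicit elements give
`m 0 * ⋯ * m (L-1) * |St P β L| ≤ |P|`.
-/

set_option autoImplicit false

namespace Cfsg.Agent.Lib.Helper92.PC

open Cfsg.Agent.Lib.Helper27
open Cfsg.Agent.Lib.Helper92

variable {n : ℕ}

/-- the elements of `P` fixing the first `i` base points. -/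
def St (P : Subgroup (Equiv.Perm (Fin n))) (β : ℕ → ℕ) (i : ℕ) : Subgroup (Equiv.Perm (Fin n)) where
  carrier := {x | x ∈ P ∧ ∀ k < i, ∀ h : β k < n, x ⟨β k, h⟩ = ⟨β k, h⟩}
  one_mem' := ⟨P.one_mem, fun _ _ _ => rfl⟩
  mul_mem' := fun {x y} hx hy => ⟨P.mul_mem hx.1 hy.1, fun k hk h => by
    rw [Equiv.Perm.mul_apply, hy.2 k hk h, hx.2 k hk h]⟩
  inv_mem' := fun {x} hx => ⟨P.inv_mem hx.1, fun k hk h => by
    rw [Equiv.Perm.inv_eq_iff_eq, hx.2 k hk h]⟩

theorem card_St_zero (P : Subgroup (Equiv.Perm (Fin n))) (β : ℕ → ℕ) :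
    Nat.card (St P β 0) = Nat.card P := by
  have : St P β 0 = P := by
    ext x
    exact ⟨fun h => h.1, fun h => ⟨h, fun k hk => absurd hk (Nat.not_lt_zero k)⟩⟩
  rw [this]

theorem card_St_succ (P : Subgroup (Equiv.Perm (Fin n))) (β : ℕ → ℕ) (i : ℕ) (hβ : β i < n) {m : ℕ}
    (pts : Fin m → Fin n) (hinj : Function.Injective pts)
    (hreach : ∀ j, ∃ x ∈ St P β i, x ⟨β i, hβ⟩ = pts j) :
    m * Nat.card (St P β (i + 1)) ≤ Nat.card (St P β i) := by
  have h1 : Nat.card (MulAction.orbit (St P β i) (⟨β i, hβ⟩ : Fin n)) *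
      Nat.card (MulAction.stabilizer (St P β i) (⟨β i, hβ⟩ : Fin n)) = Nat.card (St P β i) := by
    rw [← Nat.card_prod]
    exact Nat.card_congr (MulAction.orbitProdStabilizerEquivGroup (St P β i) _)
  have h2 : m ≤ Nat.card (MulAction.orbit (St P β i) (⟨β i, hβ⟩ : Fin n)) := by
    have := Nat.card_le_card_of_injective
      (fun j : Fin m => (⟨pts j, by
        obtain ⟨x, hx, e⟩ := hreach j
        exact ⟨⟨x, hx⟩, e⟩⟩ : MulAction.orbit (St P β i) (⟨β i, hβ⟩ : Fin n)))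
      (fun j j' e => hinj (congrArg Subtype.val e))
    rwa [Nat.card_fin] at this
  have h3 : Nat.card (St P β (i + 1)) ≤
      Nat.card (MulAction.stabilizer (St P β i) (⟨β i, hβ⟩ : Fin n)) := by
    refine Nat.card_le_card_of_injective
      (fun x : St P β (i + 1) => (⟨⟨x.1, x.2.1, fun k hk h => x.2.2 k (by omega) h⟩, ?_⟩ :
        MulAction.stabilizer (St P β i) (⟨β i, hβ⟩ : Fin n))) ?_
    · rw [MulAction.mem_stabilizer_iff]
      exact x.2.2 i (by omega) hβ
    · intro x y e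
      exact Subtype.ext (congrArg (fun s : MulAction.stabilizer (St P β i) (⟨β i, hβ⟩ : Fin n) =>
        (s.1.1 : Equiv.Perm (Fin n))) e)
  calc m * Nat.card (St P β (i + 1)) ≤ _ := Nat.mul_le_mul h2 h3
    _ = _ := h1

/-- the product of the orbit lengths. -/
def prodM (m : ℕ → ℕ) (L : ℕ) : ℕ := Nat.rec 1 (fun i ih => Nat.mul ih (m i)) L

theorem chain (P : Subgroup (Equiv.Perm (Fin n))) (β m : ℕ → ℕ) (L : ℕ)
    (h : ∀ i < L, ∃ hβ : β i < n, ∃ pts : Fin (m i) → Fin n, Function.Injective pts ∧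
      ∀ j, ∃ x ∈ St P β i, x ⟨β i, hβ⟩ = pts j) :
    prodM m L * Nat.card (St P β L) ≤ Nat.card P := by
  induction L with
  | zero => rw [card_St_zero]; simp [prodM]
  | succ L ih =>
    obtain ⟨hβ, pts, hinj, hreach⟩ := h L (by omega)
    have h1 := card_St_succ P β L hβ pts hinj hreach
    have h2 := ih (fun i hi => h i (by omega))
    calc prodM m (L + 1) * Nat.card (St P β (L + 1))
        = prodM m L * (m L * Nat.card (St P β (L + 1))) := by
          show prodM m L * m L * _ = _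
          rw [Nat.mul_assoc]
      _ ≤ prodM m L * Nat.card (St P β L) := Nat.mul_le_mul_left _ h1
      _ ≤ _ := h2

/-! ### certificates -/

/-- the points `op j` (`j < m`) are distinct and lie in the orbit of `b`. -/
def orbB (n : ℕ) (gc : ℕ → ℕ) (ρ : ℕ) (op par gsel pos : ℕ → ℕ) (b m : ℕ) : Bool :=
  allBelow (fun j => band (band (Nat.blt (op j) n) (Nat.beq (pos (op j)) j))
    (bor (band (Nat.beq j 0) (Nat.beq (op 0) b))
      (band (band (Nat.blt (par j) j) (Nat.blt (gsel j) ρ))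
        (Nat.beq (en (gc (gsel j)) (op (par j))) (op j))))) m

theorem orbB_spec {g : ℕ → Equiv.Perm (Fin n)} {gc : ℕ → ℕ} {ρ : ℕ}
    (hg : ∀ j < ρ, HasP (g j) (gc j)) {H : Subgroup (Equiv.Perm (Fin n))} (hH : ∀ j < ρ, g j ∈ H)
    {op par gsel pos : ℕ → ℕ} {b m : ℕ} (hb : b < n) (h : orbB n gc ρ op par gsel pos b m = true) :
    ∃ pts : Fin m → Fin n, Function.Injective pts ∧ ∀ j, ∃ x ∈ H, x ⟨b, hb⟩ = pts j := by
  unfold orbB at h
  rw [allBelow_iff] at h
  have h1 : ∀ j < m, op j < n ∧ pos (op j) = j ∧ ((j = 0 ∧ op 0 = b) ∨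
      (par j < j ∧ gsel j < ρ ∧ en (gc (gsel j)) (op (par j)) = op j)) := by
    intro j hj
    have := h j hj
    rw [band_eq, band_eq, bor_eq, band_eq, band_eq, band_eq, Bool.and_eq_true, Bool.and_eq_true,
      Bool.or_eq_true, Bool.and_eq_true, Bool.and_eq_true, Bool.and_eq_true, Nat.beq_eq, Nat.beq_eq,
      Nat.beq_eq, Nat.beq_eq] at this
    refine ⟨Nat.le_of_ble_eq_true this.1.1, this.1.2, ?_⟩
    rcases this.2 with h2 | h2
    · exact Or.inl h2
    · exact Or.inr ⟨Nat.le_of_ble_eq_true h2.1.1, Nat.le_of_ble_eq_true h2.1.2, h2.2⟩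
  refine ⟨fun j => ⟨op j, (h1 j j.2).1⟩, ?_, ?_⟩
  · intro j j' e
    have e' : op j = op j' := congrArg Fin.val e
    apply Fin.ext
    rw [← (h1 j j.2).2.1, ← (h1 j' j'.2).2.1, e']
  · have key : ∀ j (hj : j < m), ∃ x ∈ H, x ⟨b, hb⟩ = ⟨op j, (h1 j hj).1⟩ := by
      intro j
      induction j using Nat.strong_induction_on with
      | _ j ih =>
        intro hj
        rcases (h1 j hj).2.2 with ⟨rfl, h2⟩ | ⟨h2, h3, h4⟩
        · exact ⟨1, H.one_mem, Fin.ext h2.symm⟩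
        · obtain ⟨x, hx, e⟩ := ih _ h2 (by omega)
          refine ⟨g (gsel j) * x, H.mul_mem (hH _ h3) hx, ?_⟩
          rw [Equiv.Perm.mul_apply, e]
          apply Fin.ext
          rw [hg _ h3]
          exact h4
    exact fun j => key j j.2

/-- the whole chain. -/
def chainB (n : ℕ) (gc : ℕ → ℕ) (r : ℕ) (ρ β m : ℕ → ℕ) (op par gsel pos : ℕ → ℕ → ℕ) (L : ℕ) : Bool :=
  allBelow (fun i => band (band (Nat.blt (β i) n) (Nat.ble (ρ i) r))
    (band (allBelow (fun k => allBelow (fun j => Nat.beq (en (gc j) (β k)) (β k)) (ρ i)) i)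
      (orbB n gc (ρ i) (op i) (par i) (gsel i) (pos i) (β i) (m i)))) L

theorem chain_of_chainB {g : ℕ → Equiv.Perm (Fin n)} {gc : ℕ → ℕ} {r : ℕ}
    (hg : ∀ j < r, HasP (g j) (gc j)) {P : Subgroup (Equiv.Perm (Fin n))} (hP : ∀ j < r, g j ∈ P)
    {ρ β m : ℕ → ℕ} {op par gsel pos : ℕ → ℕ → ℕ} {L : ℕ}
    (h : chainB n gc r ρ β m op par gsel pos L = true) :
    prodM m L * Nat.card (St P β L) ≤ Nat.card P := by
  unfold chainB at h
  rw [allBelow_iff] at h
  apply chain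
  intro i hi
  have h1 := h i hi
  rw [band_eq, band_eq, band_eq, Bool.and_eq_true, Bool.and_eq_true, Bool.and_eq_true,
    allBelow_iff] at h1
  obtain ⟨⟨h2, h3⟩, h4, h5⟩ := h1
  have hβ : β i < n := Nat.le_of_ble_eq_true h2
  have hρ : ρ i ≤ r := Nat.le_of_ble_eq_true h3
  refine ⟨hβ, orbB_spec (H := St P β i) (fun j hj => hg j (by omega)) ?_ hβ h5⟩
  intro j hj
  refine ⟨hP j (by omega), fun k hk hk' => ?_⟩
  have h6 := h4 k hk
  rw [allBelow_iff] at h6
  have h7 := h6 j hj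
  rw [Nat.beq_eq] at h7
  apply Fin.ext
  rw [hg j (by omega)]
  exact h7

end Cfsg.Agent.Lib.Helper92.PC
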