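import Cfsg.Agent.Lib.Helper92.PC.Basic

/-!
# Certificates for permutation groups given by codes

* `ev x y w`, `tr xc yc w i` : words in two elements and their action on points
* `slp` : straight line programs
* `closedB`, `treeB`, `incB` : exact element lists of subgroups
* `conjB` : sets of codes closed under conjugation
-/

set_option autoImplicit false

namespace Cfsg.Agent.Lib.Helper92.PC

open Cfsg.Agent.Lib.Helper27
open Cfsg.Agent.Lib.Helper92

/-! ### words -/

/-- the value of a word (`true` is `x`, `false` is `y`). -/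
def ev {G : Type*} [Group G] (x y : G) (w : List Bool) : G :=
  List.rec 1 (fun b _ ih => (Bool.rec y x b) * ih) w

theorem ev_nil {G : Type*} [Group G] (x y : G) : ev x y [] = 1 := rfl
theorem ev_true {G : Type*} [Group G] (x y : G) (w : List Bool) :
    ev x y (true :: w) = x * ev x y w := rfl
theorem ev_false {G : Type*} [Group G] (x y : G) (w : List Bool) :
    ev x y (false :: w) = y * ev x y w := rfl

theorem map_ev {G H : Type*} [Group G] [Group H] (f : G →* H) (x y : G) (w : List Bool) :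
    f (ev x y w) = ev (f x) (f y) w := by
  induction w with
  | nil => exact map_one f
  | cons b w ih => cases b <;> simp only [ev_true, ev_false, map_mul, ih]

theorem ev_mem {G : Type*} [Group G] {H : Subgroup G} {x y : G} (hx : x ∈ H) (hy : y ∈ H)
    (w : List Bool) : ev x y w ∈ H := by
  induction w with
  | nil => exact H.one_mem
  | cons b w ih =>
    cases b
    · exact H.mul_mem hy ih
    · exact H.mul_mem hx ih

theorem ev_commute {G : Type*} [Group G] {x y u : G} (hx : u * x = x * u) (hy : u * y = y * u)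
    (w : List Bool) : u * ev x y w = ev x y w * u := by
  induction w with
  | nil => simp [ev_nil]
  | cons b w ih =>
    cases b
    · rw [ev_false, ← mul_assoc, hy, mul_assoc, ih, mul_assoc]
    · rw [ev_true, ← mul_assoc, hx, mul_assoc, ih, mul_assoc]

/-- the image of the point `i` under a word. -/
def tr (xc yc : ℕ) (w : List Bool) (i : ℕ) : ℕ :=
  List.rec i (fun b _ ih => en (Bool.rec yc xc b) ih) w

theorem tr_spec {n : ℕ} {x y : Equiv.Perm (Fin n)} {xc yc : ℕ} (hx : HasP x xc) (hy : HasP y yc)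
    (w : List Bool) (i : Fin n) : ((ev x y w i : Fin n) : ℕ) = tr xc yc w i := by
  induction w with
  | nil => rfl
  | cons b w ih =>
    cases b
    · show ((y (ev x y w i) : Fin n) : ℕ) = en yc (tr xc yc w i)
      rw [← ih, hy]
    · show ((x (ev x y w i) : Fin n) : ℕ) = en xc (tr xc yc w i)
      rw [← ih, hx]

/-- the image of the point `i` under the `m`-th power of a word. -/
def trp (xc yc : ℕ) (w : List Bool) (m i : ℕ) : ℕ := Nat.rec i (fun _ ih => tr xc yc w ih) m

theorem trp_spec {n : ℕ} {x y : Equiv.Perm (Fin n)} {xc yc : ℕ} (hx : HasP x xc) (hy : HasP y yc)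
    (w : List Bool) (m : ℕ) (i : Fin n) : (((ev x y w ^ m) i : Fin n) : ℕ) = trp xc yc w m i := by
  induction m with
  | zero => rfl
  | succ m ih =>
    rw [pow_succ']
    show ((ev x y w ((ev x y w ^ m) i) : Fin n) : ℕ) = tr xc yc w (trp xc yc w m i)
    rw [tr_spec hx hy, ih]

/-- the code of a word. -/
def evC (n e xc yc : ℕ) (w : List Bool) : ℕ :=
  List.rec e (fun b _ ih => mulP n (Bool.rec yc xc b) ih) w

theorem hasP_ev {n : ℕ} {x y : Equiv.Perm (Fin n)} {e xc yc : ℕ} (he : isId n e = true)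
    (hx : HasP x xc) (hy : HasP y yc) (w : List Bool) : HasP (ev x y w) (evC n e xc yc w) := by
  induction w with
  | nil => exact hasP_one he
  | cons b w ih =>
    cases b
    · exact hy.mul ih
    · exact hx.mul ih

/-! ### straight line programs -/

/-- the `k`-th entry of a list with default `d`. -/
def nthd (d : ℕ) (l : List ℕ) : ℕ → ℕ :=
  List.rec (fun _ => d) (fun a _ ih k => Nat.rec a (fun m _ => ih m) k) l

theorem nthd_mem (d : ℕ) (l : List ℕ) (k : ℕ) : nthd d l k = d ∨ nthd d l k ∈ l := by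
  induction l generalizing k with
  | nil => exact Or.inl rfl
  | cons a l ih =>
    cases k with
    | zero => exact Or.inr List.mem_cons_self
    | succ k =>
      rcases ih k with h | h
      · exact Or.inl h
      · exact Or.inr (List.mem_cons_of_mem _ h)

/-- run a straight line program: each instruction pushes the product of two entries of the stack. -/
def slp (n e : ℕ) (prog : List (ℕ × ℕ)) : List ℕ → List ℕ :=
  List.rec (fun st => st)
    (fun ij _ ih st => force (mulP n (nthd e st ij.1) (nthd e st ij.2)) (fun c => ih (c :: st))) prog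

theorem slp_nil (n e : ℕ) (st : List ℕ) : slp n e [] st = st := rfl

theorem slp_cons (n e : ℕ) (ij : ℕ × ℕ) (prog : List (ℕ × ℕ)) (st : List ℕ) :
    slp n e (ij :: prog) st = slp n e prog (mulP n (nthd e st ij.1) (nthd e st ij.2) :: st) := by
  show force (mulP n (nthd e st ij.1) (nthd e st ij.2)) (fun c => slp n e prog (c :: st)) = _
  rw [force_eq]

theorem slp_sound {n e : ℕ} (H : Subgroup (Equiv.Perm (Fin n))) (he : isId n e = true)
    (prog : List (ℕ × ℕ)) (st : List ℕ) (hst : ∀ c ∈ st, ∃ σ ∈ H, HasP σ c) :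
    ∀ c ∈ slp n e prog st, ∃ σ ∈ H, HasP σ c := by
  induction prog generalizing st with
  | nil => exact hst
  | cons ij prog ih =>
    rw [slp_cons]
    apply ih
    have key : ∀ k, ∃ σ ∈ H, HasP σ (nthd e st k) := by
      intro k
      rcases nthd_mem e st k with h | h
      · rw [h]; exact ⟨1, H.one_mem, hasP_one he⟩
      · exact hst _ h
    intro c hc
    rcases List.mem_cons.1 hc with rfl | hc
    · obtain ⟨σ, hσ, h1⟩ := key ij.1
      obtain ⟨τ, hτ, h2⟩ := key ij.2
      exact ⟨σ * τ, H.mul_mem hσ hτ, h1.mul h2⟩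
    · exact hst c hc

/-- the list `l` starts with `ex`. -/
def headsOK (ex : List ℕ) : List ℕ → Bool :=
  List.rec (fun _ => true)
    (fun c _ ih l => List.rec false (fun a t _ => band (Nat.beq c a) (ih t)) l) ex

theorem headsOK_mem {ex l : List ℕ} (h : headsOK ex l = true) : ∀ c ∈ ex, c ∈ l := by
  induction ex generalizing l with
  | nil => intro c hc; exact absurd hc (by simp)
  | cons a ex ih =>
    cases l with
    | nil => exact Bool.noConfusion h
    | cons b l =>
      have h' : band (Nat.beq a b) (headsOK ex l) = true := h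
      rw [band_eq, Bool.and_eq_true, Nat.beq_eq] at h'
      intro c hc
      rcases List.mem_cons.1 hc with rfl | hc
      · rw [h'.1]; exact List.mem_cons_self
      · exact List.mem_cons_of_mem _ (ih h'.2 c hc)

theorem slp_out {n e : ℕ} (H : Subgroup (Equiv.Perm (Fin n))) (he : isId n e = true)
    {prog : List (ℕ × ℕ)} {st ex : List ℕ} (hst : ∀ c ∈ st, ∃ σ ∈ H, HasP σ c)
    (h : headsOK ex (slp n e prog st) = true) : ∀ c ∈ ex, ∃ σ ∈ H, HasP σ c :=
  fun c hc => slp_sound H he prog st hst c (headsOK_mem h c hc)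

/-! ### exact lists of elements of a subgroup -/

/-- the subgroup generated by `g 0, …, g (r-1)`. -/
def genS {G : Type*} [Group G] (g : ℕ → G) (r : ℕ) : Subgroup G :=
  Subgroup.closure {x | ∃ j < r, x = g j}

theorem gen_mem {G : Type*} [Group G] (g : ℕ → G) {r j : ℕ} (hj : j < r) : g j ∈ genS g r :=
  Subgroup.subset_closure ⟨j, hj, rfl⟩

theorem genS_le {G : Type*} [Group G] {g : ℕ → G} {r : ℕ} {H : Subgroup G}
    (h : ∀ j < r, g j ∈ H) : genS g r ≤ H := by
  unfold genS
  rw [Subgroup.closure_le]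
  rintro x ⟨j, hj, rfl⟩
  exact h j hj

/-- closed under left multiplication by the generators. -/
def closedB (n : ℕ) (gc : ℕ → ℕ) (r : ℕ) (T : ℕ → ℕ) (ci : ℕ → ℕ → ℕ) (N : ℕ) : Bool :=
  allBelow (fun k => allBelow (fun j => band (Nat.blt (ci j k) N)
    (Nat.beq (mulP n (gc j) (T k)) (T (ci j k)))) r) N

theorem closedB_spec {n : ℕ} {gc : ℕ → ℕ} {r : ℕ} {T : ℕ → ℕ} {ci : ℕ → ℕ → ℕ} {N : ℕ}
    (h : closedB n gc r T ci N = true) {k j : ℕ} (hk : k < N) (hj : j < r) :
    ci j k < N ∧ mulP n (gc j) (T k) = T (ci j k) := by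
  unfold closedB at h
  rw [allBelow_iff] at h
  have h1 := h k hk
  rw [allBelow_iff] at h1
  have h2 := h1 j hj
  rw [band_eq, Bool.and_eq_true, Nat.beq_eq] at h2
  exact ⟨Nat.le_of_ble_eq_true h2.1, h2.2⟩

/-- every index is reached from `i0`. -/
def treeB (ci : ℕ → ℕ → ℕ) (par gsel rk : ℕ → ℕ) (i0 r N : ℕ) : Bool :=
  allBelow (fun k => bor (Nat.beq k i0) (band (band (Nat.blt (par k) N) (Nat.blt (gsel k) r))
    (band (Nat.blt (rk (par k)) (rk k)) (Nat.beq (ci (gsel k) (par k)) k)))) N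

/-- strictly increasing. -/
def incB (T : ℕ → ℕ) (N : ℕ) : Bool := allBelow (fun k => Nat.blt (T k) (T (Nat.succ k))) (Nat.pred N)

theorem lt_of_incB {T : ℕ → ℕ} {N : ℕ} (h : incB T N = true) :
    ∀ j, j < N → ∀ i, i < j → T i < T j := by
  unfold incB at h
  rw [allBelow_iff] at h
  intro j
  induction j with
  | zero => intro _ i hi; exact absurd hi (Nat.not_lt_zero _)
  | succ j ih =>
    intro hj i hi
    have h1 : T j < T (j + 1) := Nat.le_of_ble_eq_true (h j (by
      show j < N - 1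
      omega))
    rcases Nat.lt_succ_iff_lt_or_eq.1 hi with h2 | h2
    · exact (ih (by omega) i h2).trans h1
    · rw [h2]; exact h1

theorem inj_of_incB {T : ℕ → ℕ} {N : ℕ} (h : incB T N = true) {i j : ℕ} (hi : i < N) (hj : j < N)
    (e : T i = T j) : i = j := by
  rcases Nat.lt_trichotomy i j with hlt | heq | hlt
  · exact absurd e (ne_of_lt (lt_of_incB h j hj i hlt))
  · exact heq
  · exact absurd e.symm (ne_of_lt (lt_of_incB h i hi j hlt))

/-- the data of an exact list. -/
structure ListData (n : ℕ) (g : ℕ → Equiv.Perm (Fin n)) (r : ℕ) (T : ℕ → ℕ) (N : ℕ) : Prop where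
  sub : ∀ σ ∈ genS g r, ∃ k < N, HasP σ (T k)
  sup : ∀ k < N, ∃ σ ∈ genS g r, HasP σ (T k)
  card : Nat.card (genS g r) = N

theorem listData {n : ℕ} {g : ℕ → Equiv.Perm (Fin n)} {gc : ℕ → ℕ} {r : ℕ}
    (hg : ∀ j < r, HasP (g j) (gc j)) {T : ℕ → ℕ} {ci : ℕ → ℕ → ℕ} {par gsel rk : ℕ → ℕ} {i0 N : ℕ}
    (hi0 : i0 < N) (hid : isId n (T i0) = true) (hidc : mulP n (T i0) (T i0) = T i0)
    (hc : closedB n gc r T ci N = true) (ht : treeB ci par gsel rk i0 r N = true)
    (hinc : incB T N = true) : ListData n g r T N := by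
  have hsub : ∀ σ ∈ genS g r, ∃ k < N, HasP σ (T k) := by
    intro σ hσ
    have := Cfsg.Agent.Lib.Helper56.smul_mem_of_mem_closure (G := Equiv.Perm (Fin n))
      (X := Equiv.Perm (Fin n)) (T := {x | ∃ j < r, x = g j}) (S := {σ | ∃ k < N, HasP σ (T k)})
      (Set.toFinite _) (by
        rintro t ⟨j, hj, rfl⟩ q ⟨k, hk, hq⟩
        obtain ⟨h1, h2⟩ := closedB_spec hc hk hj
        exact ⟨ci j k, h1, h2 ▸ (hg j hj).mul hq⟩) hσ
      (q := 1) ⟨i0, hi0, hasP_one hid⟩
    simpa using this
  have hsup : ∀ k < N, ∃ σ ∈ genS g r, HasP σ (T k) := by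
    unfold treeB at ht
    rw [allBelow_iff] at ht
    have : ∀ d k, rk k = d → k < N → ∃ σ ∈ genS g r, HasP σ (T k) := by
      intro d
      induction d using Nat.strong_induction_on with
      | _ d ih =>
        intro k hd hk
        have h := ht k hk
        rw [bor_eq, Bool.or_eq_true, Nat.beq_eq, band_eq, band_eq, band_eq, Bool.and_eq_true,
          Bool.and_eq_true, Bool.and_eq_true, Nat.beq_eq] at h
        rcases h with h | ⟨⟨h1, h2⟩, h3, h4⟩
        · rw [h]; exact ⟨1, Subgroup.one_mem _, hasP_one hid⟩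
        · have h1' : par k < N := Nat.le_of_ble_eq_true h1
          have h2' : gsel k < r := Nat.le_of_ble_eq_true h2
          have h3' : rk (par k) < rk k := Nat.le_of_ble_eq_true h3
          obtain ⟨σ, hσ, hσc⟩ := ih (rk (par k)) (hd ▸ h3') (par k) rfl h1'
          obtain ⟨-, h5⟩ := closedB_spec hc h1' h2'
          rw [h4] at h5
          exact ⟨g (gsel k) * σ, Subgroup.mul_mem _ (gen_mem g h2') hσ, h5 ▸ (hg _ h2').mul hσc⟩
    exact fun k hk => this _ k rfl hk
  have hcan : ∀ k < N, Canon n (T k) := by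
    unfold treeB at ht
    rw [allBelow_iff] at ht
    intro k hk
    have h := ht k hk
    rw [bor_eq, Bool.or_eq_true, Nat.beq_eq, band_eq, band_eq, band_eq, Bool.and_eq_true,
      Bool.and_eq_true, Bool.and_eq_true, Nat.beq_eq] at h
    rcases h with h | ⟨⟨h1, h2⟩, h3, h4⟩
    · rw [h, ← hidc]; exact canon_mulP _ _ _
    · obtain ⟨-, h5⟩ := closedB_spec hc (Nat.le_of_ble_eq_true h1 : par k < N)
        (Nat.le_of_ble_eq_true h2 : gsel k < r)
      rw [h4] at h5
      rw [← h5]; exact canon_mulP _ _ _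
  refine ⟨hsub, hsup, ?_⟩
  have h1 : ∀ σ : genS g r, ∃ k : Fin N, HasP σ.1 (T k) := by
    rintro ⟨σ, hσ⟩
    obtain ⟨k, hk, h⟩ := hsub σ hσ
    exact ⟨⟨k, hk⟩, h⟩
  choose f hf using h1
  have hbij : Function.Bijective f := by
    constructor
    · intro σ τ e
      apply Subtype.ext
      have := hf τ
      rw [← e] at this
      exact (hf σ).ext this
    · intro k
      obtain ⟨σ, hσ, h⟩ := hsup k k.2
      refine ⟨⟨σ, hσ⟩, ?_⟩
      apply Fin.ext
      apply inj_of_incB hinc (f ⟨σ, hσ⟩).2 k.2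
      exact (hf ⟨σ, hσ⟩).code_eq h (hcan _ (f ⟨σ, hσ⟩).2) (hcan _ k.2)
  rw [Nat.card_congr (Equiv.ofBijective f hbij), Nat.card_fin]

/-! ### sets closed under conjugation -/

/-- closed under conjugation by the generators. -/
def conjB (n : ℕ) (gc gic : ℕ → ℕ) (r : ℕ) (T : ℕ → ℕ) (ci : ℕ → ℕ → ℕ) (N lo cnt : ℕ) : Bool :=
  allBelow (fun k => allBelow (fun j => band (Nat.blt (ci j (Nat.add lo k)) N)
    (Nat.beq (mulP n (mulP n (gc j) (T (Nat.add lo k))) (gic j)) (T (ci j (Nat.add lo k))))) r) cnt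

theorem conjB_spec {n : ℕ} {gc gic : ℕ → ℕ} {r : ℕ} {T : ℕ → ℕ} {ci : ℕ → ℕ → ℕ} {N lo cnt : ℕ}
    (h : conjB n gc gic r T ci N lo cnt = true) {k : ℕ} (h1 : lo ≤ k) (h2 : k < lo + cnt) :
    ∀ j < r, ci j k < N ∧ mulP n (mulP n (gc j) (T k)) (gic j) = T (ci j k) := by
  unfold conjB at h
  rw [allBelow_iff] at h
  have h3 := h (k - lo) (by omega)
  rw [allBelow_iff] at h3
  intro j hj
  have h4 := h3 j hj
  have e : Nat.add lo (k - lo) = k := by show lo + (k - lo) = k; omega
  rw [e, band_eq, Bool.and_eq_true, Nat.beq_eq] at h4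
  exact ⟨Nat.le_of_ble_eq_true h4.1, h4.2⟩

theorem conj_closed {n : ℕ} {g : ℕ → Equiv.Perm (Fin n)} {gc gic : ℕ → ℕ} {r : ℕ}
    (hg : ∀ j < r, HasP (g j) (gc j)) (hgi : ∀ j < r, HasP (g j)⁻¹ (gic j)) {T : ℕ → ℕ}
    {ci : ℕ → ℕ → ℕ} {N : ℕ}
    (hc : ∀ k < N, ∀ j < r, ci j k < N ∧ mulP n (mulP n (gc j) (T k)) (gic j) = T (ci j k))
    {x σ : Equiv.Perm (Fin n)} (hx : x ∈ genS g r) (hσ : ∃ k < N, HasP σ (T k)) :
    ∃ k < N, HasP (x * σ * x⁻¹) (T k) := by
  let X : Set (Equiv.Perm (Fin n)) := {σ | ∃ k < N, HasP σ (T k)}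
  let K : Subgroup (Equiv.Perm (Fin n)) :=
    { carrier := {x | ∀ σ, x * σ * x⁻¹ ∈ X ↔ σ ∈ X}
      one_mem' := by intro σ; simp
      mul_mem' := by
        intro a b ha hb σ
        rw [← hb σ, ← ha (b * σ * b⁻¹)]
        simp only [mul_inv_rev, mul_assoc]
      inv_mem' := by
        intro a ha σ
        rw [← ha (a⁻¹ * σ * a⁻¹⁻¹)]
        simp [mul_assoc] }
  have hK : genS g r ≤ K := by
    apply genS_le
    intro j hj σ
    have hfw : ∀ q ∈ X, g j * q * (g j)⁻¹ ∈ X := by
      rintro q ⟨k, hk, hq⟩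
      obtain ⟨h1, h2⟩ := hc k hk j hj
      exact ⟨ci j k, h1, h2 ▸ ((hg j hj).mul hq).mul (hgi j hj)⟩
    refine ⟨fun hq => ?_, hfw σ⟩
    have : Finite X := Set.toFinite X
    let f : X → X := fun s => ⟨g j * s.1 * (g j)⁻¹, hfw s.1 s.2⟩
    have hf : Function.Injective f := by
      intro a b hab
      have : g j * a.1 * (g j)⁻¹ = g j * b.1 * (g j)⁻¹ := congrArg Subtype.val hab
      exact Subtype.ext (mul_left_cancel (mul_right_cancel this))
    obtain ⟨s, hs⟩ := Finite.surjective_of_injective hf ⟨g j * σ * (g j)⁻¹, hq⟩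
    have : g j * s.1 * (g j)⁻¹ = g j * σ * (g j)⁻¹ := congrArg Subtype.val hs
    rw [← mul_left_cancel (mul_right_cancel this)]
    exact s.2
  exact (hK hx σ).2 hσ

end Cfsg.Agent.Lib.Helper92.PC
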